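import Cfsg.Agent.H428.CardEnd

/-!
# Curtis–Richen: the character and the stabiliser of the `U`-fixed line determine the module (helper887)

`S : Sys Δ G p` (a finite group with a split (B,N)-pair of characteristic `p`, seen through its building), `ρ`, `ρ'` simple
representations over a field of characteristic `p` such that `U c` fixes exactly the lines `k m`, `k m'`.

* `iso_of` : if `m` and `m'` have the same character for the stabiliser of `c` and the lines `k m`, `k m'` have the same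
  stabiliser in `G`, then `ρ` and `ρ'` are equivalent.

Proof. The lines `D x = k (g m, g m')` (`x = g c`) of `V × V'` form an equivariant system. If `D` is stable under the Hecke
operators, then (`Smp.le_opp`) the sum of the `D x` is the sum over the chambers opposite to `d`, which is killed by a
`U d`-invariant functional; so the sum is the graph of an equivalence. If `D` is not stable in the panel `P` (`q + 1`
chambers), then the sum `E` of the `D x`, `x ∈ P`, contains `(m, 0)`, `(0, m')`, and one of the two modules generated by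
these vectors contains the regular module of `U c` on the other chambers of the panel, so the other one is a line, fixed by
the stabiliser of the panel: contradiction.
-/

set_option autoImplicit false
set_option linter.unusedSectionVars false

namespace Cfsg.Agent.H887.BR

open Cfsg.Agent.Tits.Core Cfsg.Agent.Tits.Core.Bldg Cfsg.Agent.Tits.Exchange Cfsg.Agent.Tits
open Cfsg.Agent.FixBN Cfsg.Agent.FixBN.Cox Cfsg.Agent.Omega.CR Cfsg.Agent.Omega.CR.Bl
open Cfsg.Agent.H905.DC Cfsg.Agent.H428.CardEnd Module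

section

variable {G : Type*} [Group G] {k V V' : Type*} [Field k] [AddCommGroup V] [Module k V] [AddCommGroup V'] [Module k V']

/-- the sum of two representations -/
def prodRep (ρ : G →* Module.End k V) (ρ' : G →* Module.End k V') : G →* Module.End k (V × V') where
  toFun g := (ρ g).prodMap (ρ' g)
  map_one' := by
    refine LinearMap.ext fun v => ?_
    rw [LinearMap.prodMap_apply, map_one, map_one]
    rfl
  map_mul' a b := by
    refine LinearMap.ext fun v => ?_
    rw [LinearMap.prodMap_apply, map_mul, map_mul]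
    rfl

theorem prodRep_apply (ρ : G →* Module.End k V) (ρ' : G →* Module.End k V') (g : G) (v : V × V') :
    prodRep ρ ρ' g v = (ρ g v.1, ρ' g v.2) := rfl

end

variable {I : Type*} {M : CoxeterMatrix I} {W : Type*} [Group W] {cs : CoxeterSystem M W} {C : Type*}
  {Δ : Bldg cs C} {G : Type*} [Group G] [MulAction G C] {p : ℕ} (S : Sys Δ G p) [F : OppRes.Cox cs]
  {k V V' : Type*} [Field k] [AddCommGroup V] [Module k V] [AddCommGroup V'] [Module k V']
  (ρ : G →* Module.End k V) (ρ' : G →* Module.End k V')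

/-- the vectors `u (m)` with non-zero sum are independent -/
theorem indep_panel [Fintype C] [Fact p.Prime] [CharP k p] [Finite G] {x y : C} {m : V}
    (hm : m ∈ Vx S ρ y) (hT : tr S ρ x y m ≠ 0) :
    LinearIndependent k (fun z : {z // z ∈ sph Δ x (Δ.δ x y)} => ρ (mv S x y z.1) m) := by
  classical
  let f : {z // z ∈ sph Δ x (Δ.δ x y)} → V := fun z => ρ (mv S x y z.1) m
  have hsum : ∑ z, f z = tr S ρ x y m := by
    rw [tr_apply]
    exact Finset.sum_coe_sort (sph Δ x (Δ.δ x y)) (fun z => ρ (mv S x y z) m)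
  -- the action of `U x`
  have hmem : ∀ (u : S.U x) (z : {z // z ∈ sph Δ x (Δ.δ x y)}), (u : G) • z.1 ∈ sph Δ x (Δ.δ x y) := by
    rintro ⟨u, hu⟩ ⟨z, hz⟩
    rw [mem_sph] at hz ⊢
    rw [S.δ_smul hu, hz]
  have hf : ∀ (u : S.U x) (z : {z // z ∈ sph Δ x (Δ.δ x y)}), ρ (u : G) (f z) = f ⟨(u : G) • z.1, hmem u z⟩ := by
    rintro ⟨u, hu⟩ ⟨z, hz⟩
    have hz' := hmem ⟨u, hu⟩ ⟨z, hz⟩
    rw [mem_sph] at hz hz'
    change ρ u (ρ (mv S x y z) m) = ρ (mv S x y (u • z)) m
    rw [← rho_mul]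
    refine val S ρ hm (mul_mem hu (mv_mem S x y z)) (mv_mem S x y _) ?_
    rw [mul_smul, mv_smul S hz, mv_smul S hz']
  let τ : S.U x →* Module.End k ({z // z ∈ sph Δ x (Δ.δ x y)} → k) :=
    { toFun := fun u => LinearMap.funLeft k k fun z => ⟨((u⁻¹ : S.U x) : G) • z.1, hmem u⁻¹ z⟩
      map_one' := by
        refine LinearMap.ext fun a => funext fun z => ?_
        rw [LinearMap.funLeft_apply]
        change a _ = a z
        congr 1
        apply Subtype.ext
        change ((1⁻¹ : S.U x) : G) • z.1 = z.1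
        rw [inv_one, Subgroup.coe_one, one_smul]
      map_mul' := fun u v => by
        refine LinearMap.ext fun a => funext fun z => ?_
        change a _ = a _
        congr 1
        apply Subtype.ext
        change (((u * v)⁻¹ : S.U x) : G) • z.1 = ((v⁻¹ : S.U x) : G) • ((u⁻¹ : S.U x) : G) • z.1
        rw [mul_inv_rev, Subgroup.coe_mul, mul_smul] }
  have hτ : ∀ u a z, τ u a z = a ⟨((u⁻¹ : S.U x) : G) • z.1, hmem u⁻¹ z⟩ := fun _ _ _ => rfl
  rw [Fintype.linearIndependent_iff]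
  let N : Submodule k ({z // z ∈ sph Δ x (Δ.δ x y)} → k) := LinearMap.ker (Fintype.linearCombination k f)
  have hN : ∀ a, a ∈ N ↔ ∑ z, a z • f z = 0 := by
    intro a
    rw [LinearMap.mem_ker, Fintype.linearCombination_apply]
  suffices h0 : N = ⊥ by
    intro a ha z
    have h1 : a ∈ N := (hN a).2 ha
    rw [h0, Submodule.mem_bot] at h1
    rw [h1]
    rfl
  by_contra h0
  obtain ⟨a, ha, ha0, hfix⟩ := exists_fixed (p := p) τ (A := ⊤) ((S.isP x).to_subgroup ⊤) N (by
    intro u _ a ha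
    rw [hN] at ha ⊢
    have h1 := congrArg (ρ (u : G)) ha
    rw [map_sum, map_zero] at h1
    rw [← h1]
    refine Finset.sum_bij (fun z _ => (⟨((u⁻¹ : S.U x) : G) • z.1, hmem u⁻¹ z⟩ : {z // z ∈ sph Δ x (Δ.δ x y)})) ?_ ?_ ?_ ?_
    · intro z _
      exact Finset.mem_univ _
    · intro z _ z' _ h
      exact Subtype.ext (smul_left_cancel _ (congrArg Subtype.val h))
    · intro z _
      refine ⟨⟨(u : G) • z.1, hmem u z⟩, Finset.mem_univ _, ?_⟩
      apply Subtype.ext
      change ((u⁻¹ : S.U x) : G) • (u : G) • z.1 = z.1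
      rw [Subgroup.coe_inv, inv_smul_smul]
    · intro z _
      rw [hτ, map_smul, hf]
      congr 2
      apply Subtype.ext
      change z.1 = (u : G) • ((u⁻¹ : S.U x) : G) • z.1
      rw [Subgroup.coe_inv, smul_inv_smul]) h0
  -- the fixed vector is constant
  have hyS : y ∈ sph Δ x (Δ.δ x y) := mem_sph.2 rfl
  have hconst : ∀ z, a z = a ⟨y, hyS⟩ := by
    rintro ⟨z, hz⟩
    obtain ⟨u, hu, e⟩ := S.exists_move (x := x) (z := z) (z' := y) (by rw [mem_sph] at hz; exact hz)
    have h1 := congrFun (hfix ⟨u, hu⟩ trivial) ⟨y, hyS⟩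
    rw [hτ] at h1
    rw [← h1]
    congr 1
    apply Subtype.ext
    change z = u⁻¹ • y
    rw [← e, inv_smul_smul]
  rw [hN, Finset.sum_congr rfl fun z _ => by rw [hconst z], ← Finset.smul_sum, hsum, smul_eq_zero] at ha
  rcases ha with h1 | h1
  · exact ha0 (funext fun z => by rw [hconst z, h1]; rfl)
  · exact hT h1


/-- linear algebra: a subspace `E` of small dimension with a large image -/
theorem dim_aux {X Y : Type*} [AddCommGroup X] [Module k X] [AddCommGroup Y] [Module k Y] (π : X →ₗ[k] Y)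
    {E : Submodule k X} [FiniteDimensional k E] {Z : Type*} [Fintype Z] (hE : finrank k E ≤ Fintype.card Z + 1)
    {f : Z → Y} (hf : LinearIndependent k f) (e : Z → X) (he : ∀ z, e z ∈ E) (hπ : ∀ z, π (e z) = f z) {a b : X}
    (ha : a ∈ E) (hb : b ∈ E) (ha' : π a = 0) (hb' : π b = 0) (ha0 : a ≠ 0) : ∃ c : k, c • a = b := by
  have h1 := LinearMap.finrank_range_add_finrank_ker (π.domRestrict E)
  have h2 : Fintype.card Z ≤ finrank k (LinearMap.range (π.domRestrict E)) := by
    have h3 : LinearIndependent k (fun z => (⟨f z, ⟨⟨e z, he z⟩, hπ z⟩⟩ : LinearMap.range (π.domRestrict E))) :=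
      LinearIndependent.of_comp (LinearMap.range (π.domRestrict E)).subtype hf
    exact h3.fintype_card_le_finrank
  let a' : LinearMap.ker (π.domRestrict E) := ⟨⟨a, ha⟩, ha'⟩
  let b' : LinearMap.ker (π.domRestrict E) := ⟨⟨b, hb⟩, hb'⟩
  have ha0' : a' ≠ 0 := fun h => ha0 (congrArg (fun t : LinearMap.ker (π.domRestrict E) => (t.1 : X)) h)
  have hnt : Nontrivial (LinearMap.ker (π.domRestrict E)) := nontrivial_of_ne _ _ ha0'
  have h4 : 0 < finrank k (LinearMap.ker (π.domRestrict E)) := finrank_pos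
  have h5 : finrank k (LinearMap.ker (π.domRestrict E)) = 1 := by omega
  obtain ⟨c, hc⟩ := exists_smul_eq_of_finrank_eq_one h5 ha0' b'
  exact ⟨c, congrArg (fun t : LinearMap.ker (π.domRestrict E) => (t.1 : X)) hc⟩

section Sys

variable {S ρ ρ'}

theorem tr_prod [Fintype C] (x y : C) (v : V) (v' : V') :
    tr S (prodRep ρ ρ') x y (v, v') = (tr S ρ x y v, tr S ρ' x y v') := by
  rw [tr_apply, tr_apply, tr_apply]
  refine Prod.ext ?_ ?_
  · rw [Prod.fst_sum]
    rfl
  · rw [Prod.snd_sum]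
    rfl

variable {c : C} {m : V} {m' : V'} (hm : m ∈ Vx S ρ c) (hm' : m' ∈ Vx S ρ' c) (hm0 : m ≠ 0) (hm0' : m' ≠ 0)
  (hl : ∀ v ∈ Vx S ρ c, ∃ a : k, v = a • m) (hl' : ∀ v ∈ Vx S ρ' c, ∃ a : k, v = a • m')
  (hchar : ∀ g : G, g • c = c → ∀ a : k, ρ g m = a • m ↔ ρ' g m' = a • m')
  (hstab : ∀ g : G, (∃ a : k, ρ g m = a • m) ↔ ∃ a : k, ρ' g m' = a • m')

include hm hl hchar in
/-- two elements which move `c` to the same chamber -/
theorem pair_eq {g g' : G} (h : g • c = g' • c) :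
    ∃ a : k, (ρ g m, ρ' g m') = a • (ρ g' m, ρ' g' m') := by
  have h1 : (g'⁻¹ * g) • c = c := by rw [mul_smul, h, inv_smul_smul]
  have h2 := rho_mem_Vx S ρ (g'⁻¹ * g) hm
  rw [h1] at h2
  obtain ⟨a, ha⟩ := hl _ h2
  have h3 := (hchar _ h1 a).1 ha
  refine ⟨a, Prod.ext ?_ ?_⟩
  · change ρ g m = a • ρ g' m
    rw [← map_smul, ← ha, ← rho_mul, mul_inv_cancel_left]
  · change ρ' g m' = a • ρ' g' m'
    rw [← map_smul, ← h3, ← rho_mul, mul_inv_cancel_left]

omit F in
theorem scal (hl : ∀ v ∈ Vx S ρ c, ∃ a : k, v = a • m) (h : G) {v : V}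
    (hv : v ∈ Vx S ρ (h • c)) : ∃ a : k, v = a • ρ h m := by
  have h1 := rho_mem_Vx S ρ h⁻¹ hv
  rw [inv_smul_smul] at h1
  obtain ⟨a, ha⟩ := hl _ h1
  exact ⟨a, by rw [← map_smul, ← ha, rho_rho_inv]⟩

variable [Fintype C] [Fact p.Prime] [CharP k p] (hth : Δ.Thick) [Finite G] [FiniteDimensional k V]
  [FiniteDimensional k V']

include hm hm' hm0 hm0' hl hl' hchar hstab hth in
/-- **the same eigenvalues of the Hecke operators** -/
theorem panel {g h : G} {i : I} (hi : Δ.δ (h • c) (g • c) = cs.simple i) :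
    ∃ μ : k, tr S ρ (h • c) (g • c) (ρ g m) = μ • ρ h m ∧ tr S ρ' (h • c) (g • c) (ρ' g m') = μ • ρ' h m' := by
  classical
  obtain ⟨μ, hμ⟩ := scal hl h (tr_mem S ρ (y := h • c) (rho_mem_Vx S ρ g hm))
  obtain ⟨μ', hμ'⟩ := scal hl' h (tr_mem S ρ' (y := h • c) (rho_mem_Vx S ρ' g hm'))
  by_cases hne : μ = μ'
  · exact ⟨μ, hμ, by rw [hμ', hne]⟩
  exfalso
  let Z := {z // z ∈ sph Δ (h • c) (Δ.δ (h • c) (g • c))}
  let fm : Option Z → V × V' := fun z => match z with
    | none => (ρ h m, ρ' h m')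
    | some z => (ρ (mv S (h • c) (g • c) z.1) (ρ g m), ρ' (mv S (h • c) (g • c) z.1) (ρ' g m'))
  let E : Submodule k (V × V') := Submodule.span k (Set.range fm)
  have hfd : FiniteDimensional k E := inferInstance
  have hE : finrank k E ≤ Fintype.card Z + 1 := by
    have h1 := finrank_range_le_card (R := k) fm
    rw [Fintype.card_option] at h1
    exact h1
  have hnone : (ρ h m, ρ' h m') ∈ E := Submodule.subset_span ⟨none, rfl⟩
  have hsome : ∀ z : Z, (ρ (mv S (h • c) (g • c) z.1) (ρ g m), ρ' (mv S (h • c) (g • c) z.1) (ρ' g m')) ∈ E :=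
    fun z => Submodule.subset_span ⟨some z, rfl⟩
  -- claim 1
  have c1 : ∀ g₁ : G, g₁ • c ∈ Δ.Pan i (h • c) → (ρ g₁ m, ρ' g₁ m') ∈ E := by
    intro g₁ hg₁
    by_cases h1 : g₁ • c = h • c
    · obtain ⟨a, ha⟩ := pair_eq (ρ' := ρ') (m' := m') hm hl hchar h1
      rw [ha]
      exact Submodule.smul_mem _ _ hnone
    · have h2 : Δ.δ (h • c) (g₁ • c) = cs.simple i := by
        rcases hg₁ with h3 | h3
        · exact absurd h3 h1
        · exact h3
      have h3 : g₁ • c ∈ sph Δ (h • c) (Δ.δ (h • c) (g • c)) := by rw [mem_sph, h2, hi]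
      obtain ⟨a, ha⟩ := pair_eq (ρ' := ρ') (m' := m') (g := g₁) (g' := mv S (h • c) (g • c) (g₁ • c) * g) hm hl hchar (by
        rw [mul_smul, mv_smul S (h2.trans hi.symm)])
      rw [ha, rho_mul, rho_mul]
      exact Submodule.smul_mem _ _ (hsome ⟨_, h3⟩)
  -- the elements of the range
  have hfam : ∀ t : Option Z, ∃ g₁ : G, g₁ • c ∈ Δ.Pan i (h • c) ∧ fm t = (ρ g₁ m, ρ' g₁ m') := by
    rintro (_ | ⟨z, hz⟩)
    · exact ⟨h, Δ.self_mem_Pan i _, rfl⟩
    · have hz' := mem_sph.1 hz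
      refine ⟨mv S (h • c) (g • c) z * g, ?_, ?_⟩
      · rw [mul_smul, mv_smul S hz']
        exact Δ.mem_Pan_of_δ (hz'.trans hi)
      · rw [rho_mul, rho_mul]
  -- claim 2
  have c2 : ∀ h₁ : G, h₁ • h • c ∈ Δ.Pan i (h • c) → ∀ v ∈ E, prodRep ρ ρ' h₁ v ∈ E := by
    intro h₁ hh v hv
    induction hv using Submodule.span_induction with
    | mem v hv =>
      obtain ⟨t, rfl⟩ := hv
      obtain ⟨g₁, hg₁, e⟩ := hfam t
      rw [e, prodRep_apply]
      change (ρ h₁ (ρ g₁ m), ρ' h₁ (ρ' g₁ m')) ∈ E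
      rw [← rho_mul, ← rho_mul]
      refine c1 _ ?_
      rw [mul_smul]
      refine Δ.mem_Pan_trans hh ?_
      rcases hg₁ with h2 | h2
      · rw [h2]
        exact Δ.self_mem_Pan i _
      · exact Δ.mem_Pan_of_δ (by rw [S.iso, h2])
    | zero => rw [map_zero]; exact zero_mem _
    | add v w _ _ hv hw => rw [map_add]; exact add_mem hv hw
    | smul a v _ hv => rw [map_smul]; exact Submodule.smul_mem _ _ hv
  -- claim 3
  have c3 : (μ • ρ h m, μ' • ρ' h m') ∈ E := by
    have h1 : ∑ z : Z, (ρ (mv S (h • c) (g • c) z.1) (ρ g m), ρ' (mv S (h • c) (g • c) z.1) (ρ' g m')) ∈ E :=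
      Submodule.sum_mem _ fun z _ => hsome z
    have h2 : ∑ z : Z, (ρ (mv S (h • c) (g • c) z.1) (ρ g m), ρ' (mv S (h • c) (g • c) z.1) (ρ' g m')) =
        (μ • ρ h m, μ' • ρ' h m') := by
      rw [← hμ, ← hμ', tr_apply, tr_apply]
      refine Prod.ext ?_ ?_
      · rw [Prod.fst_sum]
        exact Finset.sum_coe_sort (sph Δ (h • c) (Δ.δ (h • c) (g • c))) (fun z => ρ (mv S (h • c) (g • c) z) (ρ g m))
      · rw [Prod.snd_sum]
        exact Finset.sum_coe_sort (sph Δ (h • c) (Δ.δ (h • c) (g • c)))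
          (fun z => ρ' (mv S (h • c) (g • c) z) (ρ' g m'))
    rwa [h2] at h1
  have hne' : μ - μ' ≠ 0 := sub_ne_zero.2 hne
  have c4 : (ρ h m, (0 : V')) ∈ E := by
    have h1 : (μ - μ')⁻¹ • ((μ • ρ h m, μ' • ρ' h m') - μ' • (ρ h m, ρ' h m')) = (ρ h m, (0 : V')) := by
      refine Prod.ext ?_ ?_
      · change (μ - μ')⁻¹ • (μ • ρ h m - μ' • ρ h m) = ρ h m
        rw [← sub_smul, smul_smul, inv_mul_cancel₀ hne', one_smul]
      · change (μ - μ')⁻¹ • (μ' • ρ' h m' - μ' • ρ' h m') = 0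
        rw [sub_self, smul_zero]
    rw [← h1]
    exact Submodule.smul_mem _ _ (Submodule.sub_mem _ c3 (Submodule.smul_mem _ _ hnone))
  have c4' : ((0 : V), ρ' h m') ∈ E := by
    have h1 : (ρ h m, ρ' h m') - (ρ h m, (0 : V')) = ((0 : V), ρ' h m') := by
      refine Prod.ext ?_ ?_
      · exact sub_self _
      · exact sub_zero _
    rw [← h1]
    exact Submodule.sub_mem _ hnone c4
  have c5 : ∀ g₁ : G, g₁ • c ∈ Δ.Pan i (h • c) → (ρ g₁ m, (0 : V')) ∈ E ∧ ((0 : V), ρ' g₁ m') ∈ E := by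
    intro g₁ hg₁
    have h1 : (g₁ * h⁻¹) • h • c ∈ Δ.Pan i (h • c) := by rwa [mul_smul, inv_smul_smul]
    constructor
    · have h2 := c2 _ h1 _ c4
      rw [prodRep_apply] at h2
      change (ρ (g₁ * h⁻¹) (ρ h m), ρ' (g₁ * h⁻¹) (0 : V')) ∈ E at h2
      rwa [← rho_mul, inv_mul_cancel_right, map_zero] at h2
    · have h2 := c2 _ h1 _ c4'
      rw [prodRep_apply] at h2
      change (ρ (g₁ * h⁻¹) (0 : V), ρ' (g₁ * h⁻¹) (ρ' h m')) ∈ E at h2
      rwa [← rho_mul, inv_mul_cancel_right, map_zero] at h2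
  have hgP : g • c ∈ Δ.Pan i (h • c) := Δ.mem_Pan_of_δ hi
  have hmvP : ∀ z : Z, (mv S (h • c) (g • c) z.1 * g) • c ∈ Δ.Pan i (h • c) := by
    intro z
    have hz' := mem_sph.1 z.2
    rw [mul_smul, mv_smul S hz']
    exact Δ.mem_Pan_of_δ (hz'.trans hi)
  -- both modules are lines
  have hlines : (∃ a : k, ρ (h⁻¹ * g) m = a • m) ∧ ∃ a : k, ρ' (h⁻¹ * g) m' = a • m' := by
    by_cases hμ0 : μ' = 0
    · have hμ1 : μ ≠ 0 := fun h0 => hne (h0.trans hμ0.symm)
      have h1 := indep_panel S ρ (x := h • c) (rho_mem_Vx S ρ g hm) (by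
        rw [hμ]
        exact smul_ne_zero hμ1 (rho_ne_zero ρ h hm0))
      obtain ⟨a, ha⟩ := dim_aux (LinearMap.fst k V V') (E := E) (Z := Z) hE h1
        (fun z => (ρ (mv S (h • c) (g • c) z.1) (ρ g m), (0 : V'))) (fun z => by
          have := (c5 _ (hmvP z)).1
          rwa [rho_mul] at this) (fun z => rfl) c4' (c5 g hgP).2 rfl rfl (fun h0 =>
            rho_ne_zero ρ' h hm0' (congrArg Prod.snd h0))
      have h2 : ∃ a : k, ρ' (h⁻¹ * g) m' = a • m' := by
        refine ⟨a, ?_⟩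
        have h3 : a • ρ' h m' = ρ' g m' := congrArg Prod.snd ha
        rw [rho_mul, ← h3, map_smul, rho_inv_rho]
      exact ⟨(hstab _).2 h2, h2⟩
    · have h1 := indep_panel S ρ' (x := h • c) (rho_mem_Vx S ρ' g hm') (by
        rw [hμ']
        exact smul_ne_zero hμ0 (rho_ne_zero ρ' h hm0'))
      obtain ⟨a, ha⟩ := dim_aux (LinearMap.snd k V V') (E := E) (Z := Z) hE h1
        (fun z => ((0 : V), ρ' (mv S (h • c) (g • c) z.1) (ρ' g m'))) (fun z => by
          have := (c5 _ (hmvP z)).2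
          rwa [rho_mul] at this) (fun z => rfl) c4 (c5 g hgP).1 rfl rfl (fun h0 =>
            rho_ne_zero ρ h hm0 (congrArg Prod.fst h0))
      have h2 : ∃ a : k, ρ (h⁻¹ * g) m = a • m := by
        refine ⟨a, ?_⟩
        have h3 : a • ρ h m = ρ g m := congrArg Prod.fst ha
        rw [rho_mul, ← h3, map_smul, rho_inv_rho]
      exact ⟨h2, (hstab _).1 h2⟩
  obtain ⟨⟨a, ha⟩, a', ha'⟩ := hlines
  -- so the traces vanish
  have e1 : ρ g m = a • ρ h m := by rw [← map_smul, ← ha, ← rho_mul, mul_inv_cancel_left]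
  have e2 : ρ' g m' = a' • ρ' h m' := by rw [← map_smul, ← ha', ← rho_mul, mul_inv_cancel_left]
  have t1 : tr S ρ (h • c) (g • c) (ρ g m) = 0 :=
    tr_self_zero S ρ hth hi (by rw [e1]; exact Submodule.smul_mem _ _ (rho_mem_Vx S ρ h hm))
  have t2 : tr S ρ' (h • c) (g • c) (ρ' g m') = 0 :=
    tr_self_zero S ρ' hth hi (by rw [e2]; exact Submodule.smul_mem _ _ (rho_mem_Vx S ρ' h hm'))
  rw [hμ] at t1
  rw [hμ'] at t2
  have z1 := (smul_eq_zero.1 t1).resolve_right (rho_ne_zero ρ h hm0)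
  have z2 := (smul_eq_zero.1 t2).resolve_right (rho_ne_zero ρ' h hm0')
  exact hne (z1.trans z2.symm)

omit F [Fintype C] [Fact p.Prime] [CharP k p] [Finite G] [FiniteDimensional k V] [FiniteDimensional k V'] in
variable (ρ ρ' c m m') in
/-- the system of lines -/
def DD (x : C) : Submodule k (V × V') := Submodule.span k {v | ∃ g : G, g • c = x ∧ v = (ρ g m, ρ' g m')}

include hm hl hchar in
theorem DD_eq (g : G) : DD ρ ρ' c m m' (g • c) = Submodule.span k {(ρ g m, ρ' g m')} := by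
  apply le_antisymm
  · rw [DD, Submodule.span_le]
    rintro _ ⟨g', hg', rfl⟩
    obtain ⟨a, ha⟩ := pair_eq (ρ' := ρ') (m' := m') hm hl hchar hg'
    rw [ha]
    exact Submodule.smul_mem _ _ (Submodule.mem_span_singleton_self _)
  · rw [Submodule.span_singleton_le_iff_mem]
    exact Submodule.subset_span ⟨g, rfl, rfl⟩

include hm hm' hm0 hm0' hl hl' hchar hstab hth in
theorem DD_sys : Smp S (prodRep ρ ρ') (DD ρ ρ' c m m') ∧ Stb S (prodRep ρ ρ') (DD ρ ρ' c m m') := by
  have hex : ∀ x : C, ∃ g : G, g • c = x := fun x => Cfsg.Agent.Omega.ML.LieRow.exists_smul_top S hth c x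
  refine ⟨⟨⟨?_, ?_⟩, ?_, ?_⟩, ?_⟩
  · intro x
    rw [DD, Submodule.span_le]
    rintro _ ⟨g, rfl, rfl⟩ u hu
    rw [prodRep_apply]
    exact Prod.ext (rho_mem_Vx S ρ g hm u hu) (rho_mem_Vx S ρ' g hm' u hu)
  · intro h x v hv
    induction hv using Submodule.span_induction with
    | mem v hv =>
      obtain ⟨g, rfl, rfl⟩ := hv
      refine Submodule.subset_span ⟨h * g, mul_smul _ _ _, ?_⟩
      rw [rho_mul, rho_mul]
      rfl
    | zero => rw [map_zero]; exact zero_mem _
    | add v w _ _ hv hw => rw [map_add]; exact add_mem hv hw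
    | smul a v _ hv => rw [map_smul]; exact Submodule.smul_mem _ _ hv
  · intro x h0
    obtain ⟨g, rfl⟩ := hex x
    rw [DD_eq hm hl hchar, Submodule.span_singleton_eq_bot] at h0
    exact rho_ne_zero ρ g hm0 (congrArg Prod.fst h0)
  · intro x L hL _
    obtain ⟨g, rfl⟩ := hex x
    rw [DD_eq hm hl hchar] at hL ⊢
    rcases eq_or_ne L ⊥ with h0 | h0
    · exact Or.inl h0
    · right
      obtain ⟨v, hv, hv0⟩ := (Submodule.ne_bot_iff _).1 h0
      refine le_antisymm hL ?_
      rw [Submodule.span_singleton_le_iff_mem]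
      obtain ⟨a, rfl⟩ := Submodule.mem_span_singleton.1 (hL hv)
      have ha : a ≠ 0 := by
        rintro rfl
        exact hv0 (zero_smul _ _)
      have := L.smul_mem a⁻¹ hv
      rwa [smul_smul, inv_mul_cancel₀ ha, one_smul] at this
  · intro x y i hxy v hv
    obtain ⟨h, rfl⟩ := hex x
    obtain ⟨g, rfl⟩ := hex y
    rw [DD_eq hm hl hchar] at hv
    obtain ⟨a, rfl⟩ := Submodule.mem_span_singleton.1 hv
    obtain ⟨μ, h1, h2⟩ := panel hm hm' hm0 hm0' hl hl' hchar hstab hth hxy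
    rw [map_smul, tr_prod, h1, h2]
    refine Submodule.smul_mem _ _ ?_
    have h3 : (ρ h m, ρ' h m') ∈ DD ρ ρ' c m m' (h • c) := Submodule.subset_span ⟨h, rfl, rfl⟩
    exact Submodule.smul_mem _ μ h3

/-- a subspace of `V × V'` stable under an irreducible pair -/
theorem graph {σ : G →* Module.End k V} {σ' : G →* Module.End k V'}
    (hirr : ∀ L : Submodule k V, Ivt σ ⊤ L → L = ⊥ ∨ L = ⊤) (hirr' : ∀ L : Submodule k V', Ivt σ' ⊤ L → L = ⊥ ∨ L = ⊤)
    {L : Submodule k (V × V')} (hL : ∀ g : G, ∀ v ∈ L, prodRep σ σ' g v ∈ L) (hne : L ≠ ⊤)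
    {v : V} {v' : V'} (hv0 : v ≠ 0) (hv0' : v' ≠ 0) (hv : (v, v') ∈ L) :
    ∃ e : V ≃ₗ[k] V', ∀ g v, e (σ g v) = σ' g (e v) := by
  -- the intersections with `V` and `V'`
  have h1 : ∀ w : V, (w, (0 : V')) ∈ L → w = 0 := by
    intro w hw
    rcases hirr (L.comap (LinearMap.inl k V V')) (by
      intro g _ w hw
      have := hL g _ hw
      change (σ g w, (0 : V')) ∈ L
      change (σ g w, σ' g (0 : V')) ∈ L at this
      rwa [map_zero] at this) with h0 | h0
    · have : w ∈ L.comap (LinearMap.inl k V V') := hw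
      rwa [h0, Submodule.mem_bot] at this
    · exfalso
      have h2 : ∀ w : V, (w, (0 : V')) ∈ L := by
        intro w
        have : w ∈ L.comap (LinearMap.inl k V V') := by rw [h0]; trivial
        exact this
      rcases hirr' (L.comap (LinearMap.inr k V V')) (by
        intro g _ w hw
        have := hL g _ hw
        change ((0 : V), σ' g w) ∈ L
        change (σ g (0 : V), σ' g w) ∈ L at this
        rwa [map_zero] at this) with h3 | h3
      · apply hv0'
        have h4 : v' ∈ L.comap (LinearMap.inr k V V') := by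
          change ((0 : V), v') ∈ L
          have h5 := L.sub_mem hv (h2 v)
          rwa [Prod.mk_sub_mk, sub_self, sub_zero] at h5
        rwa [h3, Submodule.mem_bot] at h4
      · apply hne
        rw [eq_top_iff]
        rintro ⟨w, w'⟩ _
        have h4 : w' ∈ L.comap (LinearMap.inr k V V') := by rw [h3]; trivial
        have h5 := L.add_mem (h2 w) h4
        change (w, (0 : V')) + ((0 : V), w') ∈ L at h5
        rwa [Prod.mk_add_mk, add_zero, zero_add] at h5
  have h1' : ∀ w : V', ((0 : V), w) ∈ L → w = 0 := by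
    intro w hw
    rcases hirr' (L.comap (LinearMap.inr k V V')) (by
      intro g _ w hw
      have := hL g _ hw
      change ((0 : V), σ' g w) ∈ L
      change (σ g (0 : V), σ' g w) ∈ L at this
      rwa [map_zero] at this) with h0 | h0
    · have : w ∈ L.comap (LinearMap.inr k V V') := hw
      rwa [h0, Submodule.mem_bot] at this
    · exfalso
      apply hv0
      apply h1
      have h4 : v' ∈ L.comap (LinearMap.inr k V V') := by rw [h0]; trivial
      have h5 := L.sub_mem hv h4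
      change (v, v') - ((0 : V), v') ∈ L at h5
      rwa [Prod.mk_sub_mk, sub_self, sub_zero] at h5
  -- the projections
  let π₁ : L →ₗ[k] V := (LinearMap.fst k V V').comp L.subtype
  let π₂ : L →ₗ[k] V' := (LinearMap.snd k V V').comp L.subtype
  have hi₁ : Function.Injective π₁ := by
    rw [injective_iff_map_eq_zero]
    rintro ⟨⟨w, w'⟩, hw⟩ (h : w = 0)
    subst h
    exact Subtype.ext (Prod.ext rfl (h1' w' hw))
  have hi₂ : Function.Injective π₂ := by
    rw [injective_iff_map_eq_zero]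
    rintro ⟨⟨w, w'⟩, hw⟩ (h : w' = 0)
    subst h
    exact Subtype.ext (Prod.ext (h1 w hw) rfl)
  have hs₁ : Function.Surjective π₁ := by
    rw [← LinearMap.range_eq_top]
    refine (hirr _ ?_).resolve_left ?_
    · rintro g _ _ ⟨w, rfl⟩
      exact ⟨⟨_, hL g _ w.2⟩, rfl⟩
    · intro h0
      apply hv0
      rw [← Submodule.mem_bot k, ← h0]
      exact ⟨⟨(v, v'), hv⟩, rfl⟩
  have hs₂ : Function.Surjective π₂ := by
    rw [← LinearMap.range_eq_top]
    refine (hirr' _ ?_).resolve_left ?_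
    · rintro g _ _ ⟨w, rfl⟩
      exact ⟨⟨_, hL g _ w.2⟩, rfl⟩
    · intro h0
      apply hv0'
      rw [← Submodule.mem_bot k, ← h0]
      exact ⟨⟨(v, v'), hv⟩, rfl⟩
  let e₁ := LinearEquiv.ofBijective π₁ ⟨hi₁, hs₁⟩
  let e₂ := LinearEquiv.ofBijective π₂ ⟨hi₂, hs₂⟩
  refine ⟨e₁.symm.trans e₂, ?_⟩
  intro g w
  obtain ⟨t, rfl⟩ := e₁.surjective w
  have h3 : e₁.symm (σ g (e₁ t)) = ⟨_, hL g _ t.2⟩ := by
    rw [LinearEquiv.symm_apply_eq]
    rfl
  rw [LinearEquiv.trans_apply, LinearEquiv.trans_apply, h3, LinearEquiv.symm_apply_apply]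
  rfl

variable (hirr : ∀ L : Submodule k V, Ivt ρ ⊤ L → L = ⊥ ∨ L = ⊤) (hirr' : ∀ L : Submodule k V', Ivt ρ' ⊤ L → L = ⊥ ∨ L = ⊤)

include hm hm' hm0 hm0' hl hl' hchar hstab hth hirr hirr' in
/-- **The character and the stabiliser of the line determine the module.** -/
theorem iso_of : ∃ e : V ≃ₗ[k] V', ∀ g v, e (ρ g v) = ρ' g (e v) := by
  obtain ⟨hS, hT⟩ := DD_sys hm hm' hm0 hm0' hl hl' hchar hstab hth
  obtain ⟨d, hcd⟩ := Δ.exists_δ c (w0 cs)
  have hdc : Δ.Opp d c := by
    change Δ.δ d c = w0 cs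
    rw [Δ.symm c d, show Δ.δ c d = w0 cs from hcd, F.w0_inv]
  obtain ⟨φ, hφ, hφ0⟩ := exists_pair_Vx hth hirr hcd hm hm0
  obtain ⟨φ', hφ', hφ0'⟩ := exists_pair_Vx hth hirr' hcd hm' hm0'
  refine graph hirr hirr' (L := ⨆ x, DD ρ ρ' c m m' x) ?_ ?_ hm0 hm0' ?_
  · intro g v hv
    have h2 : (⨆ x, DD ρ ρ' c m m' x) ≤ (⨆ x, DD ρ ρ' c m m' x).comap (prodRep ρ ρ' g) := by
      refine iSup_le fun x => ?_
      intro w hw
      exact le_iSup (DD ρ ρ' c m m') (g • x) (hS.eqv g x w hw)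
    exact h2 hv
  · intro htop
    have h1 : (⨆ x : {x // Δ.Opp d x}, DD ρ ρ' c m m' x.1) = ⊤ := by
      rw [eq_top_iff, ← htop]
      exact iSup_le fun z => hS.le_opp hth hT d z
    let Φ : V × V' →ₗ[k] k := φ' m' • φ.comp (LinearMap.fst k V V') - φ m • φ'.comp (LinearMap.snd k V V')
    have hΦ : ∀ w w', Φ (w, w') = φ' m' * φ w - φ m * φ' w' := fun _ _ => rfl
    have h2 : (⨆ x : {x // Δ.Opp d x}, DD ρ ρ' c m m' x.1) ≤ LinearMap.ker Φ := by
      refine iSup_le fun x => ?_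
      obtain ⟨u, hu, hux⟩ := S.exists_move (x := d) (z := c) (z' := x.1) (hdc.trans x.2.symm)
      rw [← hux, DD_eq hm hl hchar, Submodule.span_singleton_le_iff_mem, LinearMap.mem_ker, hΦ,
        (mem_fx_dual ρ).1 hφ u hu m, (mem_fx_dual ρ').1 hφ' u hu m', mul_comm, sub_self]
    rw [h1, top_le_iff] at h2
    have h3 : (m, (0 : V')) ∈ LinearMap.ker Φ := by rw [h2]; trivial
    rw [LinearMap.mem_ker, hΦ, map_zero, mul_zero, sub_zero, mul_eq_zero] at h3
    rcases h3 with h3 | h3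
    · exact hφ0' h3
    · exact hφ0 h3
  · have h1 : (m, m') ∈ DD ρ ρ' c m m' c := by
      refine Submodule.subset_span ⟨1, one_smul _ _, ?_⟩
      rw [rho_one, rho_one]
    exact le_iSup (DD ρ ρ' c m m') c h1

end Sys

end Cfsg.Agent.H887.BR
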