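import Cfsg.Agent.H883.BR.Defs
import Cfsg.Agent.H716.SplitAb
import Cfsg.Agent.LieClassical.Grun
import Cfsg.Agent.H887.BR.Iso

/-!
# HUB BR, tasks D1 and D2: the theorem of Curtis and Richen (helper887)

* `crg_of_splitAb` : a finite group with a split (B,N)-pair of characteristic `p` and positive rank, `B / U` abelian;
* **`crg_simple`** (D1) : simple groups of Lie type of characteristic `p`;
* **`crg_cover`** (D2) : perfect central extensions with a centre of order prime to `p`.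
-/

set_option autoImplicit false
set_option linter.unusedSectionVars false

namespace Cfsg.Agent.H887.BR

open Subgroup
open Cfsg.Agent.H883.BR
open Cfsg.Agent.Tits.Core Cfsg.Agent.Tits.Core.Bldg Cfsg.Agent.Tits.Exchange Cfsg.Agent.Tits
open Cfsg.Agent.Tits.OfBN Cfsg.Agent.Schreier.BNSch
open Cfsg.Agent.FixBN Cfsg.Agent.FixBN.Cox Cfsg.Agent.Omega.CR Cfsg.Agent.Omega.CR.Bl
open Cfsg.Agent.Omega.ML.LieRow.CRB (HasSplitAb)

universe u v w

/-- split (B,N)-pairs with `B / U` abelian -/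
theorem crg_of_splitAb {p : ℕ} [Fact p.Prime] {T : Type w} [Group T] [Finite T] (hT : HasSplitAb p T) :
    ∃ U : Subgroup T, CRG.{u, v, w} p U := by
  obtain ⟨P, U, hne, h, hc⟩ := hT
  have hN : ((P.B ⊓ P.N).subgroupOf P.N).Normal := normal_subgroupOf P
  obtain ⟨M, cs, hcs⟩ := S0320.result P
  have hI : Finite P.S := FixBN.OfBN.finite_I (Equiv.refl P.S)
  have hIn : Nonempty P.S := hne.to_subtype
  let S := FixBN.OfBN.sys (Equiv.refl P.S) cs hcs h
  have hth := thick P (Equiv.refl P.S) cs hcs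
  have hab : ∀ c, ∀ a b : T, a • c = c → b • c = c → a * b * a⁻¹ * b⁻¹ ∈ S.U c := by
    intro c a b ha hb
    induction c using QuotientGroup.induction_on with
    | _ g =>
      have ha' := FixBN.OfBN.smul_mk_eq.1 ha
      have hb' := FixBN.OfBN.smul_mk_eq.1 hb
      have h1 := hc _ ha' _ hb'
      show _ ∈ FixBN.OfBN.UU P U (QuotientGroup.mk g)
      rw [FixBN.OfBN.mem_UU h]
      have e : g⁻¹ * a * g * (g⁻¹ * b * g) * (g⁻¹ * a * g)⁻¹ * (g⁻¹ * b * g)⁻¹ = g⁻¹ * (a * b * a⁻¹ * b⁻¹) * g := by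
        group
      rwa [e] at h1
  have hfC : Fintype (T ⧸ P.B) := Fintype.ofFinite _
  let c : T ⧸ P.B := QuotientGroup.mk 1
  obtain ⟨d, hd⟩ := Bldg.exists_δ (bldg P (Equiv.refl P.S) cs hcs) c (w0 cs)
  have hnorm : ∀ g : T, g • c = c → ∀ u ∈ S.U c, g * u * g⁻¹ ∈ S.U c := by
    intro g hg u hu
    have := S.conj_mem_U hu g
    rwa [hg] at this
  have hline : ∀ (K : Type u) [Field K] [CharP K p] [IsAlgClosed K] (W : Type v) [AddCommGroup W] [Module K W]
      [FiniteDimensional K W] (σ : T →* Module.End K W), Irr σ ⊤ →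
      ∃ w ∈ Vx S σ c, w ≠ 0 ∧ ∀ v ∈ Vx S σ c, ∃ a : K, v = a • w := by
    intro K _ _ _ W _ _ _ σ hirr
    obtain ⟨hnt, hirr⟩ := hirr
    refine H428.CardEnd.line S σ hth hirr (x := c) (y := d) ?_
    intro g h hg _ hh _ v hv
    have h1 := hv _ (hab c g h hg hh)
    have h2 : ∀ w : W, σ (g * h) w = σ (g * h * g⁻¹ * h⁻¹) (σ (h * g) w) := fun w => by
      rw [← rho_mul]
      congr 2
      group
    rw [← rho_mul, ← rho_mul, h2]
    have h3 : σ (h * g) v ∈ Vx S σ c := by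
      have := rho_mem_Vx S σ (h * g) hv
      rwa [mul_smul, hg, hh] at this
    exact h3 _ (hab c g h hg hh)
  refine ⟨S.U c, S.isP c, ?_, ?_, ?_⟩
  · intro h0
    obtain ⟨i⟩ := hIn
    obtain ⟨y, z, hyz, hy, hz⟩ := hth c i
    obtain ⟨u, hu, e⟩ := S.exists_move (x := c) (z := y) (z' := z) (hy.trans hz.symm)
    rw [h0, mem_bot] at hu
    rw [hu, one_smul] at e
    exact hyz e
  · intro K _ _ _ W _ _ _ σ hirr _
    obtain ⟨w, hw, hw0, hwl⟩ := hline K W σ hirr
    refine ⟨w, hw0, fun v => ⟨fun hv => hwl v hv, ?_⟩⟩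
    rintro ⟨a, rfl⟩
    exact (Vx S σ c).smul_mem a hw
  · intro K _ _ _ W W' _ _ _ _ _ _ σ σ' hirr hirr' _ _ w w' hw0 hw0' hw hw' hchar hstab
    obtain ⟨w₁, -, -, hw₁⟩ := hline K W σ hirr
    obtain ⟨w₁', -, -, hw₁'⟩ := hline K W' σ' hirr'
    have hl : ∀ v ∈ Vx S σ c, ∃ a : K, v = a • w := by
      intro v hv
      obtain ⟨a, ha⟩ := hw₁ v hv
      obtain ⟨b, hb⟩ := hw₁ w hw
      have hb0 : b ≠ 0 := by
        rintro rfl
        rw [zero_smul] at hb
        exact hw0 hb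
      exact ⟨a * b⁻¹, by rw [hb, smul_smul, inv_mul_cancel_right₀ hb0, ← ha]⟩
    have hl' : ∀ v ∈ Vx S σ' c, ∃ a : K, v = a • w' := by
      intro v hv
      obtain ⟨a, ha⟩ := hw₁' v hv
      obtain ⟨b, hb⟩ := hw₁' w' hw'
      have hb0 : b ≠ 0 := by
        rintro rfl
        rw [zero_smul] at hb
        exact hw0' hb
      exact ⟨a * b⁻¹, by rw [hb, smul_smul, inv_mul_cancel_right₀ hb0, ← ha]⟩
    exact iso_of (S := S) (c := c) hw hw' hw0 hw0' hl hl' (fun g hg a => hchar g a (hnorm g hg)) hstab hth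
      hirr.2 hirr'.2

/-- **D1** -/
theorem crg_simple {p : ℕ} [Fact p.Prime] {T : Type w} [Group T] [Finite T] [IsSimpleGroup T]
    (h : Cfsg.IsLieTypeChar p T) : ∃ U : Subgroup T, CRG.{u, v, w} p U :=
  crg_of_splitAb (H716.SplitAb.hasSplitAb_of_lie Fact.out h)

/-- Grün: `M / Z(M)` has no centre, `M` perfect -/
theorem center_quot_bot {M : Type w} [Group M] (hM : commutator M = ⊤) : center (M ⧸ center M) = ⊥ := by
  rw [eq_bot_iff]
  intro z hz
  obtain ⟨g, rfl⟩ := QuotientGroup.mk_surjective z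
  rw [mem_bot, QuotientGroup.eq_one_iff]
  refine LieClassical.Grun.mem_center_of_forall_commutator_mem hM g fun k => ?_
  rw [mem_center_iff] at hz
  rw [← QuotientGroup.eq_one_iff, QuotientGroup.mk_mul, QuotientGroup.mk_mul, QuotientGroup.mk_mul,
    QuotientGroup.mk_inv, QuotientGroup.mk_inv, ← hz, mul_inv_cancel_right, mul_inv_cancel]

/-- the lift of a `p`-subgroup through a centre of order prime to `p` -/
theorem exists_lift {p : ℕ} [Fact p.Prime] {M : Type w} [Group M] [Finite M] (hz : ¬ p ∣ Nat.card (center M))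
    {U₀ : Subgroup (M ⧸ center M)} (hU₀ : IsPGroup p U₀) : ∃ U : Subgroup M, IsPGroup p U ∧
      (∀ u ∈ U, (QuotientGroup.mk u : M ⧸ center M) ∈ U₀) ∧ (∀ y ∈ U₀, ∃ u ∈ U, QuotientGroup.mk u = y) ∧
      ∀ (x : M) (k : ℕ), x ^ p ^ k = 1 → (QuotientGroup.mk x : M ⧸ center M) ∈ U₀ → x ∈ U := by
  let P : Subgroup M := U₀.comap (QuotientGroup.mk' (center M))
  let f : P →* U₀ := ((QuotientGroup.mk' (center M)).comp P.subtype).codRestrict U₀ fun x => x.2
  have hf : Function.Surjective f := by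
    rintro ⟨y, hy⟩
    obtain ⟨x, rfl⟩ := QuotientGroup.mk_surjective y
    exact ⟨⟨x, hy⟩, rfl⟩
  obtain ⟨Q⟩ : Nonempty (Sylow p P) := inferInstance
  have hQ : (Q : Subgroup P).map f = ⊤ := by
    have h1 : ((Q : Subgroup P).map f).index ∣ (Q : Subgroup P).index := Subgroup.index_map_dvd _ hf
    obtain ⟨n, hn⟩ := IsPGroup.iff_card.1 hU₀
    have h2 : ((Q : Subgroup P).map f).index ∣ p ^ n := hn ▸ Subgroup.index_dvd_card _
    obtain ⟨j, -, hj⟩ := (Nat.dvd_prime_pow Fact.out).1 h2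
    rcases Nat.eq_zero_or_pos j with rfl | hj0
    · rw [pow_zero] at hj
      exact Subgroup.index_eq_one.1 hj
    · exact absurd ((dvd_pow_self p hj0.ne').trans (hj ▸ h1)) Q.not_dvd_index
  have hsur : ∀ y ∈ U₀, ∃ u ∈ (Q : Subgroup P).map P.subtype, (QuotientGroup.mk u : M ⧸ center M) = y := by
    intro y hy
    have h1 : (⟨y, hy⟩ : U₀) ∈ (Q : Subgroup P).map f := by rw [hQ]; trivial
    obtain ⟨q, hq, e⟩ := h1
    exact ⟨q, ⟨q, hq, rfl⟩, congrArg Subtype.val e⟩
  have hpU : IsPGroup p ((Q : Subgroup P).map P.subtype) := Q.isPGroup'.map _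
  refine ⟨(Q : Subgroup P).map P.subtype, hpU, ?_, hsur, ?_⟩
  · rintro _ ⟨q, _, rfl⟩
    exact q.2
  · intro x k hx hxU
    obtain ⟨u, hu, e⟩ := hsur _ hxU
    rw [QuotientGroup.eq] at e
    have h1 : u⁻¹ * x ∈ center M := e
    obtain ⟨j, hj⟩ := hpU ⟨u, hu⟩
    have hj' : u ^ p ^ j = 1 := congrArg Subtype.val hj
    have hcomm : Commute u (u⁻¹ * x) := mem_center_iff.1 h1 u
    have h2 : (u⁻¹ * x) ^ (p ^ j * p ^ k) = 1 := by
      have h3 : x = u * (u⁻¹ * x) := by group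
      have h4 : x ^ (p ^ j * p ^ k) = 1 := by rw [mul_comm, pow_mul, hx, one_pow]
      rw [h3, hcomm.mul_pow, pow_mul, hj', one_pow, one_mul] at h4
      exact h4
    have h3 : u⁻¹ * x = 1 := by
      have h4 : orderOf (u⁻¹ * x) ∣ p ^ (j + k) := by
        rw [pow_add]
        exact orderOf_dvd_of_pow_eq_one h2
      have h5 : orderOf (u⁻¹ * x) ∣ Nat.card (center M) := by
        have := orderOf_dvd_natCard (⟨u⁻¹ * x, h1⟩ : center M)
        rwa [← Subgroup.orderOf_coe] at this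
      have h6 : (p ^ (j + k)).Coprime (Nat.card (center M)) :=
        Nat.Coprime.pow_left _ ((Nat.Prime.coprime_iff_not_dvd Fact.out).2 hz)
      exact orderOf_eq_one_iff.1 (Nat.eq_one_of_dvd_coprimes h6 h4 h5)
    have h4 : x = u := (inv_mul_eq_one.1 h3).symm
    rw [h4]
    exact hu

/-- **D2** -/
theorem crg_cover {p : ℕ} [Fact p.Prime] {M : Type w} [Group M] [Finite M] (hM : commutator M = ⊤)
    (hz : ¬ p ∣ Nat.card (Subgroup.center M))
    (h : ∃ U : Subgroup (M ⧸ Subgroup.center M), CRG.{u, v, w} p U) : ∃ U : Subgroup M, CRG.{u, v, w} p U := by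
  obtain ⟨U₀, h⟩ := h
  obtain ⟨U, hpU, h1, h2, h3⟩ := exists_lift hz h.isP
  have hc := center_quot_bot hM
  -- the representation of the quotient
  have key : ∀ (K : Type u) [Field K] (W : Type v) [AddCommGroup W] [Module K W] (σ : M →* Module.End K W),
      Irr σ ⊤ → (∀ z ∈ Subgroup.center M, σ z = 1) → ∃ τ : (M ⧸ center M) →* Module.End K W,
        (∀ g : M, τ (QuotientGroup.mk g) = σ g) ∧ Irr τ ⊤ := by
    intro K _ W _ _ σ hσ hσz
    refine ⟨QuotientGroup.lift (center M) σ fun z hz => hσz z hz, fun g => rfl, hσ.1, fun L hL => ?_⟩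
    exact hσ.2 L fun g _ v hv => hL (QuotientGroup.mk g) trivial v hv
  have hfix : ∀ {K : Type u} [Field K] {W : Type v} [AddCommGroup W] [Module K W] {σ : M →* Module.End K W}
      {τ : (M ⧸ center M) →* Module.End K W}, (∀ g : M, τ (QuotientGroup.mk g) = σ g) →
      ∀ v : W, (∀ u ∈ U₀, τ u v = v) ↔ ∀ u ∈ U, σ u v = v := by
    intro K _ W _ _ σ τ hτ v
    constructor
    · intro hv u hu
      rw [← hτ]
      exact hv _ (h1 u hu)
    · intro hv y hy
      obtain ⟨u, hu, rfl⟩ := h2 y hy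
      rw [hτ]
      exact hv u hu
  refine ⟨U, hpU, ?_, ?_, ?_⟩
  · intro h0
    apply h.ne
    rw [eq_bot_iff]
    intro y hy
    obtain ⟨u, hu, rfl⟩ := h2 y hy
    rw [h0, mem_bot] at hu
    rw [hu, QuotientGroup.mk_one]
    exact one_mem _
  · intro K _ _ _ W _ _ _ σ hσ hσz
    obtain ⟨τ, hτ, hirr⟩ := key K W σ hσ hσz
    obtain ⟨w, hw, hww⟩ := h.one K W τ hirr (by
      intro z hz
      rw [hc, mem_bot] at hz
      rw [hz, map_one])
    exact ⟨w, hw, fun v => by rw [← hww, hfix hτ]⟩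
  · intro K _ _ _ W W' _ _ _ _ _ _ σ σ' hσ hσ' hσz hσz' w w' hw hw' hu hu' hchar hstab
    obtain ⟨τ, hτ, hirr⟩ := key K W σ hσ hσz
    obtain ⟨τ', hτ', hirr'⟩ := key K W' σ' hσ' hσz'
    obtain ⟨e, he⟩ := h.iso K W W' τ τ' hirr hirr' (by
      intro z hz
      rw [hc, mem_bot] at hz
      rw [hz, map_one]) (by
      intro z hz
      rw [hc, mem_bot] at hz
      rw [hz, map_one]) w w' hw hw' ((hfix hτ w).2 hu) ((hfix hτ' w').2 hu') (by
      intro b c hb
      obtain ⟨b, rfl⟩ := QuotientGroup.mk_surjective b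
      rw [hτ, hτ']
      refine hchar b c fun u hu => ?_
      obtain ⟨k, hk⟩ := hpU ⟨u, hu⟩
      have hk' : u ^ p ^ k = 1 := congrArg Subtype.val hk
      refine h3 _ k ?_ ?_
      · rw [conj_pow, hk', mul_one, mul_inv_cancel]
      · rw [QuotientGroup.mk_mul, QuotientGroup.mk_mul, QuotientGroup.mk_inv]
        exact hb _ (h1 u hu)) (by
      intro g
      obtain ⟨g, rfl⟩ := QuotientGroup.mk_surjective g
      rw [hτ, hτ']
      exact hstab g)
    exact ⟨e, fun g v => by rw [← hτ, ← hτ', he]⟩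

end Cfsg.Agent.H887.BR
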